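import Cfsg.Agent.GenA.Tower.Local23
import Cfsg.Agent.Lib.ThreeTransp.M22.Perfect
import Cfsg.Agent.S5361

/-!
Order, width and simplicity of a group of type M(23).
-/

set_option autoImplicit false
set_option linter.unusedSectionVars false

namespace Cfsg.Agent.GenA.Tower

open Cfsg.Agent.ThreeTransp
open Cfsg.Agent.ThreeTransp.Factor (nb Hd Sd Dl Dq Sep mem_Hd Hd_commute grp_Dl)

universe u

theorem simple_of_perfect {S : Type u} [Group S] [Finite S] {E : Set S}
    (hE : Cfsg.IsThreeTranspositionGroup E) (hp : Cfsg.IsPrimitiveUnderConj E)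
    (hZ : Subgroup.center S = ⊥) (hw : ∃ a ∈ E, ∃ b ∈ E, a ≠ b ∧ Commute a b)
    (hperf : commutator S = ⊤) : IsSimpleGroup S := by
  obtain ⟨a, ha, -⟩ := id hp.2.1
  have hcls : Cfsg.IsThreeTranspositionClass E := by
    refine ⟨hE.1, ⟨a, ha, Set.ext fun y => ?_⟩, hE.2.2⟩
    constructor
    · intro hy
      obtain ⟨g, hg⟩ := hp.1 a ha y hy
      exact isConj_iff.2 ⟨g, hg⟩
    · intro hy
      obtain ⟨g, rfl⟩ := isConj_iff.1 (show IsConj a y from hy)
      exact hE.2.1 g a ha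
  haveI := (S5361.result hcls hZ hw).1.2 hp
  exact (MulEquiv.subgroupCongr hperf |>.trans Subgroup.topEquiv).symm.isSimpleGroup

theorem card_of_centralizer {S : Type u} [Group S] [Finite S] {E : Set S}
    (hE : Cfsg.IsThreeTranspositionGroup E)
    (htr : ∀ a ∈ E, ∀ b ∈ E, ∃ g : S, g * a * g⁻¹ = b) {a : S} (ha : a ∈ E) :
    Nat.card S = E.ncard * Nat.card ↥(Subgroup.centralizer ({a} : Set S)) := by
  have h := (Subgroup.centralizer ({a} : Set S)).index_mul_card
  have hi : (Subgroup.centralizer ({a} : Set S)).index = E.ncard := by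
    rw [Subgroup.index, ← Nat.card_coe_set_eq]
    refine Nat.card_congr (Equiv.ofBijective (Quotient.lift
      (fun g : S => (⟨g * a * g⁻¹, hE.2.1 g a ha⟩ : E)) ?_) ⟨?_, ?_⟩)
    · intro g g' h
      have h2 := Subgroup.mem_centralizer_iff.1 (QuotientGroup.leftRel_apply.1 h) a rfl
      refine Subtype.ext ?_
      show g * a * g⁻¹ = g' * a * g'⁻¹
      calc g * a * g⁻¹ = g * ((g⁻¹ * g') * a * (g⁻¹ * g')⁻¹) * g⁻¹ := by
            rw [← h2, mul_inv_cancel_right]
        _ = _ := by group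
    · intro p q
      induction p using Quotient.inductionOn with
      | h g =>
        induction q using Quotient.inductionOn with
        | h g' =>
          intro h
          have h' : g * a * g⁻¹ = g' * a * g'⁻¹ := congrArg Subtype.val h
          refine Quotient.sound (QuotientGroup.leftRel_apply.2 (Subgroup.mem_centralizer_iff.2 ?_))
          intro x hx
          rw [Set.mem_singleton_iff.1 hx]
          calc _ = g⁻¹ * (g * a * g⁻¹) * g' := by group
            _ = g⁻¹ * g' * a := by rw [h']; group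
    · rintro ⟨y, hy⟩
      obtain ⟨g, hg⟩ := htr a ha y hy
      exact ⟨Quotient.mk _ g, Subtype.ext hg⟩
  rw [← h, hi]

namespace M23

variable {G : Type u} [Group G] [Finite G] {D : Set G}
  (hD : Cfsg.IsThreeTranspositionGroup D)
  (hprim : Cfsg.IsPrimitiveUnderConj D) (h23 : Cfsg.IsOfTypeM23 G D)
include hD hprim h23

theorem simple_Sd {a : G} (ha : a ∈ D) : IsSimpleGroup (Sd D a) :=
  simple_of_perfect (grp hD hprim h23 ha) (prim hD hprim h23 ha) (t22 hD hprim h23 ha).1
    (ThreeTransp.M22.exists_commuting (grp hD hprim h23 ha) (prim hD hprim h23 ha)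
      (t22 hD hprim h23 ha))
    (ThreeTransp.M22.perfect_group (grp hD hprim h23 ha) (prim hD hprim h23 ha)
      (t22 hD hprim h23 ha))

theorem mem_commutator_Hd {a : G} (ha : a ∈ D) :
    (⟨a, mem_Hd_self hD hprim h23 ha⟩ : ↥(Hd D a)) ∈ commutator ↥(Hd D a) := by
  obtain ⟨p, q, r, s, t, v, hp, hq, hr, hs, ht, hv, e⟩ := six_product hD hprim h23 ha
  have htr := Factor.transitive_Dl hD hprim ha (exists_comm hD hprim h23)
  set P : ↥(Hd D a) := ⟨p, mem_Hd hp⟩ with hP
  set π := QuotientGroup.mk' (commutator ↥(Hd D a)) with hπ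
  have hπc : ∀ y ∈ Dl D a, π y = π P := by
    intro y hy
    obtain ⟨g, hg⟩ := htr P hp y hy
    rw [← hg, map_mul, map_mul, map_inv]
    have hab : ∀ x z : ↥(Hd D a) ⧸ commutator ↥(Hd D a), x * z = z * x := fun x z => by
      obtain ⟨x, rfl⟩ := QuotientGroup.mk'_surjective _ x
      obtain ⟨z, rfl⟩ := QuotientGroup.mk'_surjective _ z
      rw [← commutatorElement_eq_one_iff_mul_comm, ← map_commutatorElement]
      exact (QuotientGroup.eq_one_iff _).2 (Subgroup.commutator_mem_commutator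
        (Subgroup.mem_top _) (Subgroup.mem_top _))
    rw [hab (π g), mul_inv_cancel_right]
  have e' : (⟨a, mem_Hd_self hD hprim h23 ha⟩ : ↥(Hd D a)) =
      P * ⟨q, mem_Hd hq⟩ * ⟨r, mem_Hd hr⟩ * ⟨s, mem_Hd hs⟩ * ⟨t, mem_Hd ht⟩ * ⟨v, mem_Hd hv⟩ :=
    Subtype.ext e
  rw [e', ← QuotientGroup.eq_one_iff (N := commutator ↥(Hd D a))]
  show π _ = 1
  have hsq : π P * π P = 1 := by
    rw [← map_mul, Classes.sq (grp_Dl hD a) (show P ∈ Dl D a from hp), map_one]
  simp only [map_mul, hπc ⟨q, mem_Hd hq⟩ hq, hπc ⟨r, mem_Hd hr⟩ hr, hπc ⟨s, mem_Hd hs⟩ hs,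
    hπc ⟨t, mem_Hd ht⟩ ht, hπc ⟨v, mem_Hd hv⟩ hv, hsq, one_mul]

theorem perfect_Hd {a : G} (ha : a ∈ D) : commutator ↥(Hd D a) = ⊤ := by
  set π := QuotientGroup.mk' (Subgroup.center ↥(Hd D a))
  rw [eq_top_iff]
  intro x _
  have hmap : (commutator ↥(Hd D a)).map π = ⊤ := by
    rw [commutator_def, Subgroup.map_commutator,
      Subgroup.map_top_of_surjective _ (QuotientGroup.mk'_surjective _), ← commutator_def]
    exact ThreeTransp.M22.perfect_group (grp hD hprim h23 ha) (prim hD hprim h23 ha)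
      (t22 hD hprim h23 ha)
  obtain ⟨y, hy, hyx⟩ : π x ∈ (commutator ↥(Hd D a)).map π := hmap ▸ Subgroup.mem_top _
  have hz : y⁻¹ * x ∈ Subgroup.center ↥(Hd D a) := QuotientGroup.eq.1 hyx
  rw [center_eq hD hprim h23 ha, Subgroup.mem_subgroupOf] at hz
  obtain ⟨n, hn⟩ := Subgroup.mem_zpowers_iff.1 hz
  have : y⁻¹ * x = (⟨a, mem_Hd_self hD hprim h23 ha⟩ : ↥(Hd D a)) ^ n := Subtype.ext (by
    rw [SubgroupClass.coe_zpow]; exact hn.symm)
  rw [show x = y * (y⁻¹ * x) by group, this]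
  exact mul_mem hy (zpow_mem (mem_commutator_Hd hD hprim h23 ha) n)

theorem perfect_group : commutator G = ⊤ := by
  rw [eq_top_iff, ← hD.2.2, Subgroup.closure_le]
  intro a ha
  have h : (⟨a, mem_Hd_self hD hprim h23 ha⟩ : ↥(Hd D a)) ∈ commutator ↥(Hd D a) :=
    mem_commutator_Hd hD hprim h23 ha
  have := Subgroup.mem_map_of_mem (Hd D a).subtype h
  rw [commutator_def, Subgroup.map_commutator] at this
  rw [SetLike.mem_coe, commutator_def]
  exact Subgroup.commutator_mono le_top le_top this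

theorem simple : IsSimpleGroup G :=
  simple_of_perfect hD hprim h23.1 (exists_comm hD hprim h23) (perfect_group hD hprim h23)

theorem card_group : Nat.card G = 4089470473293004800 := by
  obtain ⟨a, ha, -⟩ := hprim.2.1
  rw [card_of_centralizer hD hprim.1 ha, centralizer_eq hD hprim h23 ha, ncard_class hD hprim h23,
    card_loc hD hprim h23 ha]

theorem width : Cfsg.commutingWidth D = 23 := by
  classical
  have hbound : ∀ a ∈ D, ∀ E : Set (Sd D a), E ⊆ Dq D a →
      (∀ x ∈ E, ∀ y ∈ E, Commute x y) → E.ncard ≤ 22 := by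
    intro a ha E hE hc
    have := ThreeTransp.M22.width (grp hD hprim h23 ha) (prim hD hprim h23 ha)
      (t22 hD hprim h23 ha)
    rw [← this]
    refine le_csSup ⟨Nat.card (Sd D a), ?_⟩ ⟨E, hE, Set.toFinite _, hc, rfl⟩
    rintro n ⟨E', -, -, -, rfl⟩
    exact (Set.ncard_le_ncard (Set.subset_univ E') (Set.toFinite _)).trans
      (Set.ncard_univ _).le
  refine IsGreatest.csSup_eq ⟨?_, ?_⟩
  · obtain ⟨a, ha, -⟩ := hprim.2.1
    have hw := ThreeTransp.M22.width (grp hD hprim h23 ha) (prim hD hprim h23 ha)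
      (t22 hD hprim h23 ha)
    have hmem : 22 ∈ {n : ℕ | ∃ E : Set (Sd D a), E ⊆ Dq D a ∧ E.Finite ∧
        (∀ x ∈ E, ∀ y ∈ E, Commute x y) ∧ E.ncard = n} := by
      rw [← hw]
      refine Nat.sSup_mem ⟨0, ∅, Set.empty_subset _, Set.finite_empty, by simp, by simp⟩
        ⟨Nat.card (Sd D a), ?_⟩
      rintro n ⟨E', -, -, -, rfl⟩
      exact (Set.ncard_le_ncard (Set.subset_univ E') (Set.toFinite _)).trans
        (Set.ncard_univ _).le
    obtain ⟨E, hE, -, hc, hcard⟩ := hmem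
    set P : Set G := {x | x ∈ nb D a ∧ pr D a x ∈ E}
    have himg : pr D a '' P = E := by
      ext q
      constructor
      · rintro ⟨x, hx, rfl⟩; exact hx.2
      · intro hq
        obtain ⟨x, hx, rfl⟩ : q ∈ pr D a '' nb D a := by rw [image_nb_pr]; exact hE hq
        exact ⟨x, ⟨hx, hq⟩, rfl⟩
    refine ⟨insert a P, Set.insert_subset ha fun x hx => hx.1.1, Set.toFinite _, ?_, ?_⟩
    · rintro x (rfl | hx) y (rfl | hy)
      exacts [Commute.refl _, hy.1.2.2, hx.1.2.2.symm,
        (pr_comm hD hx.1 hy.1).1 (hc _ hx.2 _ hy.2)]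
    · rw [Set.ncard_insert_of_notMem (fun h => h.1.2.1 rfl) (Set.toFinite _),
        ← ncard_pr (sep hD hprim h23 ha) (fun x hx => hx.1), himg, hcard]
  · rintro n ⟨E, hE, -, hc, rfl⟩
    rcases E.eq_empty_or_nonempty with rfl | ⟨a, ha⟩
    · simp
    have haD := hE ha
    have hsub : E \ {a} ⊆ nb D a := fun x hx => ⟨hE hx.1, hx.2, hc a ha x hx.1⟩
    have h := hbound a haD (pr D a '' (E \ {a}))
      (by rintro _ ⟨x, hx, rfl⟩; exact pr_mem (hsub hx))
      (by
        rintro _ ⟨x, hx, rfl⟩ _ ⟨y, hy, rfl⟩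
        exact (pr_comm hD (hsub hx) (hsub hy)).2 (hc x hx.1 y hy.1))
    rw [ncard_pr (sep hD hprim h23 haD) hsub, Set.ncard_sdiff_singleton_of_mem ha] at h
    omega

end M23

end Cfsg.Agent.GenA.Tower
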