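import Cfsg.Agent.GenA.Tower.Blocks
import Cfsg.Agent.Lib.ThreeTransp.M22.Local

/-!
The local facts of a group of type M(22) that do not need primitivity.
-/

set_option autoImplicit false
set_option linter.unusedSectionVars false

namespace Cfsg.Agent.GenA.Tower

open Cfsg.Agent.ThreeTransp Cfsg.Agent.Classical.Unitary Cfsg.Agent.Forms
open Cfsg.Agent.GroupStructure3.ThreeTransUnitary
open Cfsg.Agent.ThreeTransp.Factor (nb Hd Sd Dl Dq mem_Hd Hd_commute)

universe u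

variable {G : Type u} [Group G] [Finite G] {D : Set G}
  (hD : Cfsg.IsThreeTranspositionGroup D) (h22 : Cfsg.IsOfTypeM22 G D)
include hD h22

theorem inner22 : Inner D := by
  refine ⟨?_, ?_, ?_⟩
  · intro x hx p hp q hq
    obtain ⟨C⟩ := M22.exists_chart hD h22 hx
    obtain ⟨u, hu0, hu, rfl⟩ := C.cover p hp
    obtain ⟨v, hv0, hv, rfl⟩ := C.cover q hq
    obtain ⟨k, c, hk⟩ := exists_su_point C.hF hu0 hv0 hu hv
    obtain ⟨h, hh⟩ := C.surj (QuotientGroup.mk' _ k)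
    refine ⟨h, RankThree.conj_self_of_commute (Hd_commute h.2), ?_⟩
    rw [C.f_conj hD hh hu0 hu]
    exact ((C.eq_iff v _ hv0 hv (mat_mulVec_ne_zero k hu0) (by rw [SU_H, hu])).2 ⟨c, hk⟩).symm
  · intro x hx y hy hxy
    obtain ⟨C⟩ := M22.exists_chart hD h22 hx
    obtain ⟨w, hw⟩ := Set.nonempty_of_ncard_ne_zero
      (C.ncard_nb.trans_ne (by norm_num : (693 : ℕ) ≠ 0))
    by_cases hwy : w ∈ nb D y
    · obtain ⟨C'⟩ := M22.exists_chart hD h22 hw.1
      have h1 := C'.ncard_one (Cover.mem_nb_symm hx hw)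
      have h2 := C'.ncard_cross (Cover.mem_nb_symm hx hw) (Cover.mem_nb_symm hy hwy) hxy
      obtain ⟨t, ht, ht'⟩ := Set.exists_mem_notMem_of_ncard_lt_ncard
        (s := nb D w ∩ nb D x ∩ nb D y) (t := nb D w ∩ nb D x) (by omega) (Set.toFinite _)
      exact ⟨t, ht.2, fun h => ht' ⟨ht, h⟩⟩
    · exact ⟨w, hw, hwy⟩
  · obtain ⟨-, d, hd, -⟩ := id h22
    obtain ⟨C⟩ := M22.exists_chart hD h22 hd
    obtain ⟨x, hx⟩ := Set.nonempty_of_ncard_ne_zero
      (C.ncard_nb.trans_ne (by norm_num : (693 : ℕ) ≠ 0))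
    have h1 := C.ncard_one hx
    have h2 := Set.ncard_insert_le x (nb D d ∩ nb D x)
    have h3 := C.ncard_nb
    obtain ⟨y, hy, hy'⟩ := Set.exists_mem_notMem_of_ncard_lt_ncard
      (s := insert x (nb D d ∩ nb D x)) (t := nb D d) (by omega) (Set.toFinite _)
    refine ⟨d, hd, x, hx, y, hy, fun h => hy' ?_⟩
    by_cases e : y = x
    · exact Or.inl e
    · exact Or.inr ⟨hy, hy.1, e, h⟩

theorem hex22 : Cfsg.pCore 2 G = ⊥ ∧ Nontrivial G := by
  refine ⟨(Factor.M22_core hD h22).1, ?_⟩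
  obtain ⟨-, d, -, c, -, hdc, -⟩ := h22
  exact ⟨d, c, fun e => hdc (e ▸ Commute.refl d)⟩

end Cfsg.Agent.GenA.Tower
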