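import Cfsg.Agent.Lib.ThreeTransp.Cover

/-!
Counting in the commuting graph of a primitive class with given valency and edge parameter.
-/

set_option autoImplicit false
set_option linter.unusedSectionVars false

namespace Cfsg.Agent.GenA.Tower

open Cfsg.Agent.ThreeTransp
open Cfsg.Agent.ThreeTransp.Factor (nb)
open Cfsg.Agent.ThreeTransp.Cover (mem_nb_symm conj_nb)

variable {G : Type*} [Group G] {D : Set G}

/-- The members not commuting with `a`. -/
def far (D : Set G) (a : G) : Set G := {c | c ∈ D ∧ ¬ Commute a c}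

variable [Finite G] (hD : Cfsg.IsThreeTranspositionGroup D)
include hD

theorem conj_pair {g a c : G} :
    (fun x => g * x * g⁻¹) '' (nb D a ∩ nb D c) =
      nb D (g * a * g⁻¹) ∩ nb D (g * c * g⁻¹) := by
  ext y
  constructor
  · rintro ⟨x, hx, rfl⟩
    exact ⟨conj_nb hD g hx.1, conj_nb hD g hx.2⟩
  · intro hy
    refine ⟨g⁻¹ * y * g, ⟨?_, ?_⟩, by group⟩
    · have := conj_nb hD g⁻¹ hy.1
      rwa [show g⁻¹ * (g * a * g⁻¹) * g⁻¹⁻¹ = a by group, inv_inv] at this
    · have := conj_nb hD g⁻¹ hy.2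
      rwa [show g⁻¹ * (g * c * g⁻¹) * g⁻¹⁻¹ = c by group, inv_inv] at this

variable (hprim : Cfsg.IsPrimitiveUnderConj D) (hw : ∃ a ∈ D, ∃ b ∈ D, a ≠ b ∧ Commute a b)
include hprim hw

theorem far_pair {a c a' c' : G} (ha : a ∈ D) (hc : c ∈ D) (hac : ¬ Commute a c)
    (ha' : a' ∈ D) (hc' : c' ∈ D) (hac' : ¬ Commute a' c') :
    ∃ g : G, g * a * g⁻¹ = a' ∧ g * c * g⁻¹ = c' := by
  obtain ⟨g, hg⟩ := hprim.1 a ha a' ha'
  obtain ⟨h, hh, hh'⟩ := RankThree.linked_outer hD hprim hw ha' (hD.2.1 g c hc) hc'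
    (by rw [← hg, Basic.commute_conj]; exact hac) hac'
  refine ⟨h * g, ?_, ?_⟩
  · rw [show h * g * a * (h * g)⁻¹ = h * (g * a * g⁻¹) * h⁻¹ by group, hg,
      RankThree.conj_self_of_commute (RankThree.loc_commute hh)]
  · rw [← hh']; group

theorem pair_const {a c a' c' : G} (ha : a ∈ D) (hc : c ∈ D) (hac : ¬ Commute a c)
    (ha' : a' ∈ D) (hc' : c' ∈ D) (hac' : ¬ Commute a' c') :
    (nb D a ∩ nb D c).ncard = (nb D a' ∩ nb D c').ncard := by
  obtain ⟨g, e, e'⟩ := far_pair hD hprim hw ha hc hac ha' hc' hac'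
  rw [← e, ← e', ← conj_pair hD, Set.ncard_image_of_injective _ fun p q hpq =>
    mul_left_cancel (mul_right_cancel hpq)]

theorem pair_nonempty {a c : G} (ha : a ∈ D) (hc : c ∈ D) (hac : ¬ Commute a c) :
    (nb D a ∩ nb D c).Nonempty := by
  obtain ⟨x, hx, hax, hxc⟩ := RankThree.exists_common hD hprim hw ha hc hac
  exact ⟨x, ⟨hx, fun e => hac (e ▸ hxc), hax⟩, hx, fun e => hac (e ▸ hax), hxc.symm⟩

omit hprim hw in
theorem ncard_D {a : G} (ha : a ∈ D) :
    D.ncard = 1 + (nb D a).ncard + (far D a).ncard := by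
  have hset : D = insert a (nb D a ∪ far D a) := by
    ext y
    simp only [Set.mem_insert_iff, Set.mem_union]
    constructor
    · intro hy
      by_cases e : y = a
      · exact Or.inl e
      by_cases h : Commute a y
      exacts [Or.inr (Or.inl ⟨hy, e, h⟩), Or.inr (Or.inr ⟨hy, h⟩)]
    · rintro (rfl | h | h)
      exacts [ha, h.1, h.1]
  conv_lhs => rw [hset]
  rw [Set.ncard_insert_of_notMem ?_ (Set.toFinite _), Set.ncard_union_eq ?_ (Set.toFinite _)
    (Set.toFinite _)]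
  · omega
  · rw [Set.disjoint_left]
    intro y hy hy'
    exact hy'.2 hy.2.2
  · rintro (h | h)
    exacts [h.2.1 rfl, h.2 (Commute.refl a)]

/-- Two counts of the paths of length two from a member to the members outside. -/
theorem far_mul {k l : ℕ} (hk : ∀ a ∈ D, (nb D a).ncard = k)
    (hl : ∀ a ∈ D, ∀ x ∈ nb D a, (nb D a ∩ nb D x).ncard = l) {a c : G} (ha : a ∈ D) (hc : c ∈ D)
    (hac : ¬ Commute a c) :
    (far D a).ncard * (nb D a ∩ nb D c).ncard = k * (k - 1 - l) := by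
  classical
  have key := Finset.sum_card_bipartiteAbove_eq_sum_card_bipartiteBelow
    (r := fun x y => y ∈ nb D x) (s := (Set.toFinite (nb D a)).toFinset)
    (t := (Set.toFinite (far D a)).toFinset)
  rw [Finset.sum_const_nat (m := k - 1 - l), Finset.sum_const_nat (m := (nb D a ∩ nb D c).ncard),
    ← Set.ncard_eq_toFinset_card, ← Set.ncard_eq_toFinset_card, hk a ha] at key
  · rw [← key]
  · intro y hy
    rw [Set.Finite.mem_toFinset] at hy
    rw [pair_const hD hprim hw ha hc hac ha hy.1 hy.2,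
      Set.ncard_eq_toFinset_card (nb D a ∩ nb D y) (Set.toFinite _)]
    congr 1
    ext x
    simp only [Finset.bipartiteBelow, Finset.mem_filter, Set.Finite.mem_toFinset, Set.mem_inter_iff]
    exact ⟨fun ⟨hx, hxy⟩ => ⟨hx, mem_nb_symm hx.1 hxy⟩,
      fun ⟨hx, hxy⟩ => ⟨hx, mem_nb_symm hy.1 hxy⟩⟩
  · intro x hx
    rw [Set.Finite.mem_toFinset] at hx
    have hset : nb D x = insert a ((nb D a ∩ nb D x) ∪ (far D a ∩ nb D x)) := by
      ext y
      simp only [Set.mem_insert_iff, Set.mem_union, Set.mem_inter_iff]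
      constructor
      · intro hy
        by_cases e : y = a
        · exact Or.inl e
        by_cases h : Commute a y
        · exact Or.inr (Or.inl ⟨⟨hy.1, e, h⟩, hy⟩)
        · exact Or.inr (Or.inr ⟨⟨hy.1, h⟩, hy⟩)
      · rintro (rfl | h | h)
        exacts [mem_nb_symm ha hx, h.2, h.2]
    have h1 := hk x hx.1
    rw [hset, Set.ncard_insert_of_notMem ?_ (Set.toFinite _), Set.ncard_union_eq ?_ (Set.toFinite _)
      (Set.toFinite _), hl a ha x hx] at h1
    · rw [show Finset.bipartiteAbove (fun x y => y ∈ nb D x) (Set.toFinite (far D a)).toFinset x =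
        (Set.toFinite (far D a ∩ nb D x)).toFinset by
          ext y; simp [Finset.bipartiteAbove], ← Set.ncard_eq_toFinset_card]
      omega
    · rw [Set.disjoint_left]
      rintro y ⟨hy, -⟩ ⟨hy', -⟩
      exact hy'.2 hy.2.2
    · rintro (⟨h, -⟩ | ⟨h, -⟩)
      exacts [h.2.1 rfl, h.2 (Commute.refl a)]

omit hprim hw in
/-- The commuting graph is strongly regular. -/
theorem srg {k l μ n : ℕ} (hk : ∀ a ∈ D, (nb D a).ncard = k)
    (hl : ∀ a ∈ D, ∀ x ∈ nb D a, (nb D a ∩ nb D x).ncard = l)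
    (hμ : ∀ a ∈ D, ∀ c ∈ D, ¬ Commute a c → (nb D a ∩ nb D c).ncard = μ)
    (hn : D.ncard = n) [Fintype D] [DecidableRel (Cfsg.commutingGraph D).Adj] :
    (Cfsg.commutingGraph D).IsSRGWith n k l μ := by
  classical
  have hN : ∀ x : D, (Cfsg.commutingGraph D).neighborSet x =
      Subtype.val ⁻¹' nb D (x : G) := by
    intro x
    ext z
    simp only [SimpleGraph.mem_neighborSet, Cfsg.commutingGraph, SimpleGraph.fromRel_adj,
      Set.mem_preimage]
    constructor
    · rintro ⟨hne, h | h⟩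
      exacts [⟨z.2, fun e => hne (Subtype.ext e.symm), h⟩,
        ⟨z.2, fun e => hne (Subtype.ext e.symm), h.symm⟩]
    · intro h
      exact ⟨fun e => h.2.1 (congrArg Subtype.val e).symm, Or.inl h.2.2⟩
  have hpre : ∀ s : Set G, s ⊆ D → ((Subtype.val : D → G) ⁻¹' s).ncard = s.ncard := fun s hs =>
    Set.ncard_preimage_of_injective_subset_range Subtype.val_injective
      (by rwa [Subtype.range_coe_subtype])
  have hC : ∀ x z : D, Fintype.card ((Cfsg.commutingGraph D).commonNeighbors x z) =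
      (nb D (x : G) ∩ nb D (z : G)).ncard := by
    intro x z
    rw [← Nat.card_eq_fintype_card, Nat.card_coe_set_eq, SimpleGraph.commonNeighbors, hN, hN,
      ← Set.preimage_inter, hpre _ fun q hq => hq.1.1]
  refine { card := ?_, regular := ?_, of_adj := ?_, of_not_adj := ?_ }
  · rw [← Nat.card_eq_fintype_card, Nat.card_coe_set_eq, hn]
  · intro x
    rw [← SimpleGraph.card_neighborSet_eq_degree, ← Nat.card_eq_fintype_card, Nat.card_coe_set_eq,
      hN, hpre _ fun q hq => hq.1, hk x x.2]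
  · intro x z h
    have hz : (z : G) ∈ nb D (x : G) := by
      have : z ∈ (Cfsg.commutingGraph D).neighborSet x := h
      rwa [hN] at this
    rw [hC, hl x x.2 z hz]
  · intro x z hne h
    rw [hC, hμ x x.2 z z.2 fun hc => h ?_]
    show z ∈ (Cfsg.commutingGraph D).neighborSet x
    rw [hN]
    exact ⟨z.2, fun e => hne (Subtype.ext e.symm), hc⟩

/-- First and second moments of the number of common neighbours seen from outside. -/
theorem pair_moments {k l d e : ℕ} (hk : ∀ a ∈ D, (nb D a).ncard = k)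
    (hl : ∀ a ∈ D, ∀ x ∈ nb D a, (nb D a ∩ nb D x).ncard = l)
    (hadj : ∀ a ∈ D, ∀ x ∈ nb D a, ∀ z ∈ nb D a, x ≠ z → Commute x z →
      (nb D a ∩ nb D x ∩ nb D z).ncard = e)
    (hcross : ∀ a ∈ D, ∀ x ∈ nb D a, ∀ z ∈ nb D a, ¬ Commute x z →
      (nb D a ∩ nb D x ∩ nb D z).ncard = d)
    {y c : G} (hy : y ∈ D) (hc : c ∈ D) (hyc : ¬ Commute y c) :
    ∃ N : Finset G, (∀ z, z ∈ N ↔ z ∈ nb D y ∧ z ∉ nb D c) ∧
      N.card + (nb D y ∩ nb D c).ncard = k ∧
      ∑ z ∈ N, ((nb D y ∩ nb D c ∩ nb D z).ncard : ℤ) =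
        ((l : ℤ) - d) * (nb D y ∩ nb D c).ncard ∧
      ∑ z ∈ N, ((nb D y ∩ nb D c ∩ nb D z).ncard : ℤ) ^ 2 =
        (d : ℤ) * ((nb D y ∩ nb D c).ncard : ℤ) ^ 2 +
          ((l : ℤ) + d * e - d * (d + 1) - d ^ 2) * (nb D y ∩ nb D c).ncard := by
  classical
  set U : Finset G := (Set.toFinite (nb D y)).toFinset with hU
  set S : Finset G := (Set.toFinite (nb D y ∩ nb D c)).toFinset with hS
  have hSU : S ⊆ U := fun z hz => by
    simp only [hS, hU, Set.Finite.mem_toFinset] at hz ⊢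
    exact hz.1
  have hS' : (nb D y ∩ nb D c).ncard = S.card := Set.ncard_eq_toFinset_card _ _
  set m : G → ℕ := fun z => (nb D y ∩ nb D c ∩ nb D z).ncard with hm
  have hm' : ∀ z, m z = (S.filter fun x => x ∈ nb D z).card := fun z => by
    rw [hm]
    simp only
    rw [Set.ncard_eq_toFinset_card _ (Set.toFinite _)]
    congr 1
    ext x
    simp [hS]
  have hdeg : ∀ x ∈ nb D y ∩ nb D c, (nb D y ∩ nb D c ∩ nb D x).ncard = d := by
    intro x hx
    rw [show nb D y ∩ nb D c ∩ nb D x = nb D x ∩ nb D y ∩ nb D c by ext; simp; tauto]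
    exact hcross x hx.1.1 y (mem_nb_symm hy hx.1) c (mem_nb_symm hc hx.2) hyc
  have hf : ∀ x ∈ S, ∀ x' ∈ S, (U.filter fun z => x ∈ nb D z ∧ x' ∈ nb D z).card =
      (nb D y ∩ nb D x ∩ nb D x').ncard := by
    intro x hx x' hx'
    simp only [hS, Set.Finite.mem_toFinset] at hx hx'
    rw [Set.ncard_eq_toFinset_card _ (Set.toFinite _)]
    congr 1
    ext z
    simp only [hU, Finset.mem_filter, Set.Finite.mem_toFinset, Set.mem_inter_iff]
    exact ⟨fun ⟨hz, h1, h2⟩ => ⟨⟨hz, mem_nb_symm hz.1 h1⟩, mem_nb_symm hz.1 h2⟩,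
      fun ⟨⟨hz, h1⟩, h2⟩ => ⟨hz, mem_nb_symm hx.1.1 h1, mem_nb_symm hx'.1.1 h2⟩⟩
  have hsum1 : ∑ z ∈ U, m z = S.card * l := by
    simp_rw [hm', Finset.card_filter]
    rw [Finset.sum_comm, ← smul_eq_mul, ← Finset.sum_const]
    refine Finset.sum_congr rfl fun x hx => ?_
    rw [← Finset.card_filter]
    have := hf x hx x hx
    simp only [and_self] at this
    rw [this, Set.inter_assoc, Set.inter_self]
    simp only [hS, Set.Finite.mem_toFinset] at hx
    exact hl y hy x hx.1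
  have hsum2 : ∑ z ∈ U, ((m z : ℤ) ^ 2) =
      S.card * ((l : ℤ) + d * e + ((S.card : ℤ) - 1 - d) * d) := by
    have e1 : ∀ z, ((m z : ℤ) ^ 2) =
        ∑ x ∈ S, ∑ x' ∈ S, (if x ∈ nb D z ∧ x' ∈ nb D z then (1 : ℤ) else 0) := by
      intro z
      rw [hm', sq, Finset.card_filter]
      push_cast
      rw [Finset.sum_mul_sum]
      refine Finset.sum_congr rfl fun x _ => Finset.sum_congr rfl fun x' _ => ?_
      split_ifs <;> simp_all
    rw [Finset.sum_congr rfl fun z _ => e1 z, Finset.sum_comm, ← nsmul_eq_mul, ← Finset.sum_const]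
    refine Finset.sum_congr rfl fun x hx => ?_
    rw [Finset.sum_comm, Finset.sum_congr rfl fun x' hx' => (Finset.sum_boole
      (fun z => x ∈ nb D z ∧ x' ∈ nb D z) U).trans (congrArg Nat.cast (hf x hx x' hx'))]
    have hxS := hx
    simp only [hS, Set.Finite.mem_toFinset] at hxS
    rw [← Finset.add_sum_erase _ _ hx, Set.inter_assoc (nb D y), Set.inter_self,
      hl y hy x hxS.1,
      ← Finset.sum_filter_add_sum_filter_not (S.erase x) (fun x' => x' ∈ nb D x)]
    have hA : ((S.erase x).filter fun x' => x' ∈ nb D x).card = d := by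
      rw [← hdeg x hxS, Set.ncard_eq_toFinset_card _ (Set.toFinite _)]
      congr 1
      ext q
      simp only [hS, Finset.mem_filter, Finset.mem_erase, Set.Finite.mem_toFinset,
        Set.mem_inter_iff]
      exact ⟨fun h => ⟨h.1.2, h.2⟩, fun h => ⟨⟨h.2.2.1, h.1⟩, h.2⟩⟩
    have hB := Finset.card_filter_add_card_filter_not (s := S.erase x) (fun x' => x' ∈ nb D x)
    rw [Finset.card_erase_of_mem hx, hA] at hB
    have hpos := Finset.card_pos.2 ⟨x, hx⟩
    rw [Finset.sum_congr rfl (g := fun _ => (e : ℤ)) ?_,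
      Finset.sum_congr rfl (s₁ := (S.erase x).filter fun x' => ¬ x' ∈ nb D x)
        (g := fun _ => (d : ℤ)) ?_, Finset.sum_const, Finset.sum_const, hA]
    · have hB' : ((((S.erase x).filter fun x' => ¬ x' ∈ nb D x).card : ℕ) : ℤ) =
          (S.card : ℤ) - 1 - d := by omega
      simp only [nsmul_eq_mul]
      rw [hB']
      ring
    · intro q hq
      simp only [hS, Finset.mem_filter, Finset.mem_erase, Set.Finite.mem_toFinset] at hq
      rw [hcross y hy x hxS.1 q hq.1.2.1 fun hxq => hq.2 ⟨hq.1.2.1.1, hq.1.1, hxq⟩]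
    · intro q hq
      simp only [hS, Finset.mem_filter, Finset.mem_erase, Set.Finite.mem_toFinset] at hq
      rw [hadj y hy x hxS.1 q hq.1.2.1 (Ne.symm hq.1.1) hq.2.2.2]
  have hin : ∀ x ∈ S, m x = d := fun x hx => by
    simp only [hS, Set.Finite.mem_toFinset] at hx
    exact hdeg x hx
  refine ⟨U \ S, fun z => ?_, ?_, ?_, ?_⟩
  · simp only [hU, hS, Finset.mem_sdiff, Set.Finite.mem_toFinset, Set.mem_inter_iff, not_and]
    exact ⟨fun h => ⟨h.1, h.2 h.1⟩, fun h => ⟨h.1, fun _ => h.2⟩⟩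
  · have := Finset.card_sdiff_add_card_eq_card hSU
    rw [← hS'] at this
    rw [this, hU, ← Set.ncard_eq_toFinset_card, hk y hy]
  · have h := Finset.sum_sdiff (f := fun z => (m z : ℤ)) hSU
    rw [Finset.sum_congr rfl (s₁ := S) (g := fun _ => (d : ℤ)) (fun x hx => by rw [hin x hx]),
      Finset.sum_const, ← Nat.cast_sum U m, hsum1] at h
    rw [hS']
    simp only [nsmul_eq_mul] at h
    push_cast at h
    show ∑ z ∈ U \ S, (m z : ℤ) = _
    linear_combination h
  · have h := Finset.sum_sdiff (f := fun z => (m z : ℤ) ^ 2) hSU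
    rw [Finset.sum_congr rfl (s₁ := S) (g := fun _ => (d : ℤ) ^ 2)
      (fun x hx => by rw [hin x hx]), Finset.sum_const, hsum2] at h
    rw [hS']
    simp only [nsmul_eq_mul] at h
    show ∑ z ∈ U \ S, (m z : ℤ) ^ 2 = _
    linear_combination h

end Cfsg.Agent.GenA.Tower
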