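import Cfsg.Agent.Lib.ThreeTransp.Factor.Types

/-!
Types M(22) and M(23) are invariant under isomorphism; in a group of type M(23) every member has
a local quotient of type M(22).
-/

set_option autoImplicit false

namespace Cfsg.Agent.GenA.Tower

open Cfsg.Agent.ThreeTransp
open Cfsg.Agent.ThreeTransp.Factor (nb Hd Sd Dl Dq mem_Hd)

universe u v

variable {A : Type u} {B : Type v} [Group A] [Group B]

/-- The isomorphism of subgroups induced by an isomorphism of groups. -/
noncomputable def subCongr (e : A ≃* B) {H : Subgroup A} {K : Subgroup B}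
    (h : H.map e.toMonoidHom = K) : ↥H ≃* ↥K :=
  (H.equivMapOfInjective e.toMonoidHom e.injective).trans (MulEquiv.subgroupCongr h)

theorem coe_subCongr (e : A ≃* B) {H : Subgroup A} {K : Subgroup B}
    (h : H.map e.toMonoidHom = K) (x : ↥H) : (subCongr e h x : B) = e x := rfl

theorem map_center (e : A ≃* B) :
    (Subgroup.center A).map e.toMonoidHom = Subgroup.center B := by
  ext x
  constructor
  · rintro ⟨z, hz, rfl⟩
    rw [Subgroup.mem_center_iff]
    intro w
    obtain ⟨w, rfl⟩ := e.surjective w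
    show e w * e z = e z * e w
    rw [← map_mul, Subgroup.mem_center_iff.1 hz w, map_mul]
  · intro hx
    refine ⟨e.symm x, ?_, e.apply_symm_apply x⟩
    rw [SetLike.mem_coe, Subgroup.mem_center_iff]
    intro w
    apply e.injective
    rw [map_mul, map_mul, e.apply_symm_apply, Subgroup.mem_center_iff.1 hx]

/-- The isomorphism of central quotients. -/
noncomputable def quotCongr (e : A ≃* B) :
    A ⧸ Subgroup.center A ≃* B ⧸ Subgroup.center B :=
  QuotientGroup.congr _ _ e (map_center e)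

theorem quotCongr_mk (e : A ≃* B) (x : A) :
    quotCongr e (QuotientGroup.mk x) = QuotientGroup.mk (e x) := rfl

variable (e : A ≃* B) (D : Set A)

theorem image_nb (d : A) : e '' nb D d = nb (e '' D) (e d) := by
  ext y
  constructor
  · rintro ⟨x, ⟨hx, hne, hc⟩, rfl⟩
    exact ⟨⟨x, hx, rfl⟩, fun h => hne (e.injective h), hc.map e⟩
  · rintro ⟨⟨x, hx, rfl⟩, hne, hc⟩
    refine ⟨x, ⟨hx, fun h => hne (by rw [h]), ?_⟩, rfl⟩
    have := hc.map e.symm
    rwa [e.symm_apply_apply, e.symm_apply_apply] at this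

theorem map_Hd (d : A) : (Hd D d).map e.toMonoidHom = Hd (e '' D) (e d) := by
  rw [MonoidHom.map_closure, MulEquiv.coe_toMonoidHom, image_nb]

theorem map_pair (d c : A) :
    (Subgroup.closure (nb D d ∩ nb D c)).map e.toMonoidHom =
      Subgroup.closure (nb (e '' D) (e d) ∩ nb (e '' D) (e c)) := by
  rw [MonoidHom.map_closure, MulEquiv.coe_toMonoidHom, Set.image_inter e.injective, image_nb,
    image_nb]

/-- The induced isomorphism of local quotients. -/
noncomputable def sdCongr (d : A) : Sd D d ≃* Sd (e '' D) (e d) :=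
  quotCongr (subCongr e (map_Hd e D d))

theorem image_Dq (d : A) : sdCongr e D d '' Dq D d = Dq (e '' D) (e d) := by
  ext y
  constructor
  · rintro ⟨_, ⟨x, hx, rfl⟩, rfl⟩
    refine ⟨subCongr e (map_Hd e D d) x, ?_, (quotCongr_mk _ x).symm⟩
    show (subCongr e (map_Hd e D d) x : B) ∈ nb (e '' D) (e d)
    rw [← image_nb]
    exact ⟨x, hx, rfl⟩
  · rintro ⟨z, hz, rfl⟩
    obtain ⟨x, hx, hxz⟩ : (z : B) ∈ e '' nb D d := by rw [image_nb]; exact hz
    refine ⟨_, ⟨⟨x, mem_Hd hx⟩, hx, rfl⟩, ?_⟩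
    show QuotientGroup.mk (subCongr e (map_Hd e D d) ⟨x, mem_Hd hx⟩) = QuotientGroup.mk z
    exact congrArg _ (Subtype.ext hxz)

include e in
theorem center_bot (h : Subgroup.center A = ⊥) : Subgroup.center B = ⊥ := by
  rw [← map_center e, h, Subgroup.map_bot]

theorem type22 (h : Cfsg.IsOfTypeM22 A D) : Cfsg.IsOfTypeM22 B (e '' D) := by
  obtain ⟨hZ, d, hd, c, hc, hdc, ⟨F, i1, i2, hF, ⟨φ⟩⟩, c₃, hc₃, hL⟩ := h
  have φ' : Sd D d ≃* Cfsg.PSU 6 F 2 := φ
  refine ⟨center_bot e hZ, e d, ⟨d, hd, rfl⟩, e c, ⟨c, hc, rfl⟩, fun h => hdc ?_,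
    ⟨F, i1, i2, hF, ⟨(sdCongr e D d).symm.trans φ'⟩⟩, c₃, hc₃,
    Factor.proj_refl_congr (quotCongr (subCongr e (map_pair e D d c))) hL⟩
  have := h.map e.symm
  rwa [e.symm_apply_apply, e.symm_apply_apply] at this

theorem type23 (h : Cfsg.IsOfTypeM23 A D) : Cfsg.IsOfTypeM23 B (e '' D) := by
  obtain ⟨hZ, d, hd, c, hc, hdc, h22, c₃, hc₃, hL⟩ := h
  have h22' : Cfsg.IsOfTypeM22 (Sd D d) (Dq D d) := h22
  refine ⟨center_bot e hZ, e d, ⟨d, hd, rfl⟩, e c, ⟨c, hc, rfl⟩, fun h => hdc ?_, ?_, c₃, hc₃,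
    Factor.proj_refl_congr (quotCongr (subCongr e (map_pair e D d c))) hL⟩
  · have := h.map e.symm
    rwa [e.symm_apply_apply, e.symm_apply_apply] at this
  · have := type22 (sdCongr e D d) (Dq D d) h22'
    rw [image_Dq] at this
    exact this

end Cfsg.Agent.GenA.Tower

namespace Cfsg.Agent.GenA.Tower

open Cfsg.Agent.ThreeTransp
open Cfsg.Agent.ThreeTransp.Factor (nb Hd Sd Dl Dq mem_Hd)

universe u

variable {G : Type u} [Group G] {D : Set G} (hD : Cfsg.IsThreeTranspositionGroup D)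
  (htr : ∀ a ∈ D, ∀ b ∈ D, ∃ g : G, g * a * g⁻¹ = b)
include hD

theorem image_conj (g : G) : MulAut.conj g '' D = D := by
  ext y
  constructor
  · rintro ⟨x, hx, rfl⟩; exact hD.2.1 g x hx
  · intro hy
    refine ⟨g⁻¹ * y * g, Classes.inv_conj_mem hD g hy, ?_⟩
    simp only [MulAut.conj_apply]
    group

include htr

theorem local22 (h : Cfsg.IsOfTypeM23 G D) {a : G} (ha : a ∈ D) :
    Cfsg.IsOfTypeM22 (Sd D a) (Dq D a) := by
  obtain ⟨-, d, hd, c, hc, hdc, h22, -⟩ := h
  obtain ⟨g, hg⟩ := htr d hd a ha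
  have h22' : Cfsg.IsOfTypeM22 (Sd D d) (Dq D d) := h22
  have := type22 (sdCongr (MulAut.conj g) D d) (Dq D d) h22'
  rw [image_Dq] at this
  rw [image_conj hD] at this
  rw [show MulAut.conj g d = a from hg] at this
  exact this

theorem local23 (h : Cfsg.IsOfTypeM24 G D) {a : G} (ha : a ∈ D) :
    Cfsg.IsOfTypeM23 (Sd D a) (Dq D a) := by
  obtain ⟨-, d, hd, c, hc, hdc, h23, -⟩ := h
  obtain ⟨g, hg⟩ := htr d hd a ha
  have h23' : Cfsg.IsOfTypeM23 (Sd D d) (Dq D d) := h23
  have := type23 (sdCongr (MulAut.conj g) D d) (Dq D d) h23'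
  rw [image_Dq] at this
  rw [image_conj hD] at this
  rw [show MulAut.conj g d = a from hg] at this
  exact this

end Cfsg.Agent.GenA.Tower
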