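import Cfsg.Agent.GenA.Tower.Facts23
import Cfsg.Agent.GenA.Tower.Count

/-!
The commuting graph of a group of type M(23): 31671 members, any two non-commuting ones with 351
common neighbours.
-/

set_option autoImplicit false
set_option linter.unusedSectionVars false

namespace Cfsg.Agent.GenA.Tower.M23

open Cfsg.Agent.ThreeTransp
open Cfsg.Agent.ThreeTransp.Factor (nb Hd Sd Dl Dq Sep mem_Hd)
open Cfsg.Agent.ThreeTransp.Cover (mem_nb_symm conj_nb)
open Cfsg.Agent.ThreeTransp.RankThree (loc mem_loc)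

universe u

theorem mu_cases {s : ℕ} (h1 : 351 ≤ s) (h2 : s ≤ 675) (hd : s ∣ 9884160) {j : ℤ}
    (hj : ((693 : ℤ) - s) ^ 2 + 4 * ((3510 : ℤ) - s) = j ^ 2) : s = 351 := by
  have key : ∀ m < 676, 351 ≤ m → m ∣ 9884160 → m ∈ [351, 352, 360, 384, 390, 396, 416, 429, 432, 440, 468, 480, 495, 512, 520, 528, 540, 572, 576, 585, 594, 624, 640, 660] := by decide +kernel
  have := key s (by omega) h1 hd
  simp only [List.mem_cons, List.not_mem_nil, or_false] at this
  rcases this with rfl | rfl | rfl | rfl | rfl | rfl | rfl | rfl | rfl | rfl | rfl | rfl | rfl | rfl | rfl | rfl | rfl | rfl | rfl | rfl | rfl | rfl | rfl | rfl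
  · rfl
  all_goals norm_num at hj
  all_goals first
  | exact absurd hj (by exact_mod_cast M22.not_sq_between (n := 359) (m := 128913) (by norm_num) (by norm_num) j)
  | exact absurd hj (by exact_mod_cast M22.not_sq_between (n := 351) (m := 123489) (by norm_num) (by norm_num) j)
  | exact absurd hj (by exact_mod_cast M22.not_sq_between (n := 328) (m := 107985) (by norm_num) (by norm_num) j)
  | exact absurd hj (by exact_mod_cast M22.not_sq_between (n := 322) (m := 104289) (by norm_num) (by norm_num) j)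
  | exact absurd hj (by exact_mod_cast M22.not_sq_between (n := 317) (m := 100665) (by norm_num) (by norm_num) j)
  | exact absurd hj (by exact_mod_cast M22.not_sq_between (n := 298) (m := 89105) (by norm_num) (by norm_num) j)
  | exact absurd hj (by exact_mod_cast M22.not_sq_between (n := 286) (m := 82020) (by norm_num) (by norm_num) j)
  | exact absurd hj (by exact_mod_cast M22.not_sq_between (n := 283) (m := 80433) (by norm_num) (by norm_num) j)
  | exact absurd hj (by exact_mod_cast M22.not_sq_between (n := 276) (m := 76289) (by norm_num) (by norm_num) j)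
  | exact absurd hj (by exact_mod_cast M22.not_sq_between (n := 250) (m := 62793) (by norm_num) (by norm_num) j)
  | exact absurd hj (by exact_mod_cast M22.not_sq_between (n := 239) (m := 57489) (by norm_num) (by norm_num) j)
  | exact absurd hj (by exact_mod_cast M22.not_sq_between (n := 226) (m := 51264) (by norm_num) (by norm_num) j)
  | exact absurd hj (by exact_mod_cast M22.not_sq_between (n := 211) (m := 44753) (by norm_num) (by norm_num) j)
  | exact absurd hj (by exact_mod_cast M22.not_sq_between (n := 204) (m := 41889) (by norm_num) (by norm_num) j)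
  | exact absurd hj (by exact_mod_cast M22.not_sq_between (n := 197) (m := 39153) (by norm_num) (by norm_num) j)
  | exact absurd hj (by exact_mod_cast M22.not_sq_between (n := 187) (m := 35289) (by norm_num) (by norm_num) j)
  | exact absurd hj (by exact_mod_cast M22.not_sq_between (n := 162) (m := 26393) (by norm_num) (by norm_num) j)
  | exact absurd hj (by exact_mod_cast M22.not_sq_between (n := 159) (m := 25425) (by norm_num) (by norm_num) j)
  | exact absurd hj (by exact_mod_cast M22.not_sq_between (n := 152) (m := 23364) (by norm_num) (by norm_num) j)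
  | exact absurd hj (by exact_mod_cast M22.not_sq_between (n := 146) (m := 21465) (by norm_num) (by norm_num) j)
  | exact absurd hj (by exact_mod_cast M22.not_sq_between (n := 127) (m := 16305) (by norm_num) (by norm_num) j)
  | exact absurd hj (by exact_mod_cast M22.not_sq_between (n := 119) (m := 14289) (by norm_num) (by norm_num) j)
  | exact absurd hj (by exact_mod_cast M22.not_sq_between (n := 111) (m := 12489) (by norm_num) (by norm_num) j)

variable {G : Type u} [Group G] [Finite G] {D : Set G}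
  (hD : Cfsg.IsThreeTranspositionGroup D)
  (hprim : Cfsg.IsPrimitiveUnderConj D) (h23 : Cfsg.IsOfTypeM23 G D)
include hD hprim h23

/-- The degree of the common neighbourhood of a non-commuting pair. -/
theorem inner_degree {a c x : G} (ha : a ∈ D) (hc : c ∈ D) (hac : ¬ Commute a c)
    (hx : x ∈ nb D a ∩ nb D c) : (nb D a ∩ nb D c ∩ nb D x).ncard = 126 := by
  rw [show nb D a ∩ nb D c ∩ nb D x = nb D x ∩ nb D a ∩ nb D c by ext; simp; tauto]
  exact ncard_cross hD hprim h23 hx.1.1 (mem_nb_symm ha hx.1) (mem_nb_symm hc hx.2) hac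

theorem inner_pair {a c x y : G} (ha : a ∈ D) (hc : c ∈ D) (hac : ¬ Commute a c)
    (hx : x ∈ nb D a ∩ nb D c) (hy : y ∈ nb D a ∩ nb D c ∩ nb D x) :
    (nb D a ∩ nb D c ∩ nb D x ∩ nb D y).ncard = 45 := by
  rw [show nb D a ∩ nb D c ∩ nb D x ∩ nb D y = nb D x ∩ nb D a ∩ nb D c ∩ nb D y by
    ext; simp; tauto]
  exact ncard_four hD hprim h23 hx.1.1 (mem_nb_symm ha hx.1) (mem_nb_symm hc hx.2) hac
    ⟨⟨hy.2, hy.1.1⟩, hy.1.2⟩

theorem moments {y c : G} (hy : y ∈ D) (hc : c ∈ D) (hyc : ¬ Commute y c) :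
    ∃ N : Finset G, (∀ z, z ∈ N ↔ z ∈ nb D y ∧ z ∉ nb D c) ∧
      N.card + (nb D y ∩ nb D c).ncard = 3510 ∧
      ∑ z ∈ N, ((nb D y ∩ nb D c ∩ nb D z).ncard : ℤ) = 567 * (nb D y ∩ nb D c).ncard ∧
      ∑ z ∈ N, ((nb D y ∩ nb D c ∩ nb D z).ncard : ℤ) ^ 2 =
        126 * ((nb D y ∩ nb D c).ncard : ℤ) ^ 2 - 8505 * (nb D y ∩ nb D c).ncard := by
  obtain ⟨N, h1, h2, h3, h4⟩ := pair_moments hD hprim (exists_comm hD hprim h23)
    (k := 3510) (l := 693) (d := 126) (e := 180)
    (fun a ha => ncard_nb hD hprim h23 ha) (fun a ha x hx => ncard_one hD hprim h23 ha hx)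
    (fun a ha x hx z hz => ncard_adj hD hprim h23 ha hx hz)
    (fun a ha x hx z hz => ncard_cross hD hprim h23 ha hx hz) hy hc hyc
  refine ⟨N, h1, h2, ?_, ?_⟩
  · rw [h3]; norm_num
  · rw [h4]; push_cast; ring

theorem far_mul {a c : G} (ha : a ∈ D) (hc : c ∈ D) (hac : ¬ Commute a c) :
    (far D a).ncard * (nb D a ∩ nb D c).ncard = 9884160 := by
  rw [Tower.far_mul hD hprim (exists_comm hD hprim h23) (k := 3510) (l := 693)
    (fun a ha => ncard_nb hD hprim h23 ha) (fun a ha x hx => ncard_one hD hprim h23 ha hx)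
    ha hc hac]

/-- Non-commuting members have 351 common neighbours. -/
theorem ncard_inter {a c : G} (ha : a ∈ D) (hc : c ∈ D) (hac : ¬ Commute a c) :
    (nb D a ∩ nb D c).ncard = 351 := by
  classical
  have hw := exists_comm hD hprim h23
  have hprod := far_mul hD hprim h23 ha hc hac
  obtain ⟨N, -, hNc, hS1, hS2⟩ := moments hD hprim h23 ha hc hac
  have hcs := sq_sum_le_card_mul_sum_sq (s := N)
    (f := fun z => ((nb D a ∩ nb D c ∩ nb D z).ncard : ℤ))
  rw [hS1, hS2] at hcs
  have hpos := (Set.ncard_pos (Set.toFinite _)).2 (pair_nonempty hD hprim hw ha hc hac)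
  haveI : Fintype D := Fintype.ofFinite _
  have key := srg hD (n := D.ncard) (k := 3510) (l := 693) (μ := (nb D a ∩ nb D c).ncard)
    (fun a ha => ncard_nb hD hprim h23 ha) (fun a ha x hx => ncard_one hD hprim h23 ha hx)
    (fun a' ha' c' hc' h' => pair_const hD hprim hw ha' hc' h' ha hc hac) rfl
  have hn := ncard_D hD ha
  rw [ncard_nb hD hprim h23 ha] at hn
  generalize hs : (nb D a ∩ nb D c).ncard = s at hprod hNc hpos hcs key
  generalize hl : (far D a).ncard = l at hprod hn
  have hN' : (N.card : ℤ) = 3510 - s := by omega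
  rw [hN'] at hcs
  have hs0 : (0 : ℤ) < s := by exact_mod_cast hpos
  have h' : ((s : ℤ) - 351) * ((s : ℤ) - 675) ≤ 0 := by
    by_contra hlt
    push Not at hlt
    nlinarith [mul_pos hs0 hlt]
  have h1 : 351 ≤ s := by
    by_contra hlt
    push Not at hlt
    have : (0 : ℤ) < ((s : ℤ) - 351) * ((s : ℤ) - 675) :=
      mul_pos_of_neg_of_neg (by omega) (by omega)
    omega
  have h2 : s ≤ 675 := by
    by_contra hgt
    push Not at hgt
    have : (0 : ℤ) < ((s : ℤ) - 351) * ((s : ℤ) - 675) := mul_pos (by omega) (by omega)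
    omega
  have hl0 : 0 < l := Nat.pos_of_ne_zero fun e => by rw [e] at hprod; omega
  obtain ⟨j, hj⟩ := M22.Discr.discr_square _ key (by omega) (by norm_num) (by omega) (by
    rw [hn]
    push_cast
    have : (0 : ℤ) ≤ ((3510 : ℤ) + l) * ((693 : ℤ) - s) := mul_nonneg (by omega) (by omega)
    intro h0
    nlinarith [this, h0])
  exact mu_cases h1 h2 ⟨l, by rw [← hprod, mul_comm]⟩ hj

theorem ncard_far {a : G} (ha : a ∈ D) : (far D a).ncard = 28160 := by
  obtain ⟨c, hc, hac⟩ := Classes.exists_noncomm hD hprim.1 hprim.2.1 ha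
  have h := far_mul hD hprim h23 ha hc hac
  rw [ncard_inter hD hprim h23 ha hc hac] at h
  omega

theorem ncard_class : D.ncard = 31671 := by
  obtain ⟨a, ha, -⟩ := hprim.2.1
  rw [ncard_D hD ha, ncard_nb hD hprim h23 ha, ncard_far hD hprim h23 ha]

/-- Every member outside sees exactly sixty-three common neighbours. -/
theorem sixty_three {y c z : G} (hy : y ∈ D) (hc : c ∈ D) (hyc : ¬ Commute y c)
    (hz : z ∈ nb D y) (hzc : z ∉ nb D c) : (nb D y ∩ nb D c ∩ nb D z).ncard = 63 := by
  obtain ⟨N, hN, hcard, h1, h2⟩ := moments hD hprim h23 hy hc hyc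
  rw [ncard_inter hD hprim h23 hy hc hyc] at hcard h1 h2
  have h0 : ∑ q ∈ N, (((nb D y ∩ nb D c ∩ nb D q).ncard : ℤ) - 63) ^ 2 = 0 := by
    simp only [sub_sq, Finset.sum_add_distrib, Finset.sum_sub_distrib, ← Finset.sum_mul,
      ← Finset.mul_sum, Finset.sum_const, nsmul_eq_mul]
    rw [h2, h1]
    have : (N.card : ℤ) = 3159 := by omega
    rw [this]
    norm_num
  have := (Finset.sum_eq_zero_iff_of_nonneg fun q _ => sq_nonneg _).1 h0 z ((hN z).2 ⟨hz, hzc⟩)
  rw [sq_eq_zero_iff, sub_eq_zero] at this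
  exact_mod_cast this

theorem conn {a c : G} (ha : a ∈ D) (hc : c ∈ D) (hac : ¬ Commute a c) (P : G → Prop)
    (hP : ∀ p ∈ nb D a ∩ nb D c, ∀ q ∈ nb D a ∩ nb D c, Commute p q → P p → P q)
    {x : G} (hx : x ∈ nb D a ∩ nb D c) (hPx : P x) {x' : G} (hx' : x' ∈ nb D a ∩ nb D c) :
    P x' := by
  by_contra hn
  have big : ∀ R : G → Prop,
      (∀ p ∈ nb D a ∩ nb D c, ∀ q ∈ nb D a ∩ nb D c, Commute p q → R p → R q) →
      ∀ p ∈ nb D a ∩ nb D c, R p → 207 ≤ {q | q ∈ nb D a ∩ nb D c ∧ R q}.ncard := by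
    intro R hR p hp hRp
    obtain ⟨r, hr⟩ := Set.nonempty_of_ncard_ne_zero
      ((inner_degree hD hprim h23 ha hc hac hp).trans_ne (by norm_num : (126 : ℕ) ≠ 0))
    have h1 := inner_degree hD hprim h23 ha hc hac hp
    have h2 := inner_degree hD hprim h23 ha hc hac hr.1
    have h3 := inner_pair hD hprim h23 ha hc hac hp hr
    have h4 := Set.ncard_union_add_ncard_inter (nb D a ∩ nb D c ∩ nb D p)
      (nb D a ∩ nb D c ∩ nb D r) (Set.toFinite _) (Set.toFinite _)
    rw [h1, h2, show nb D a ∩ nb D c ∩ nb D p ∩ (nb D a ∩ nb D c ∩ nb D r) =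
      nb D a ∩ nb D c ∩ nb D p ∩ nb D r by ext; simp; tauto, h3] at h4
    have hsub : nb D a ∩ nb D c ∩ nb D p ∪ nb D a ∩ nb D c ∩ nb D r ⊆
        {q | q ∈ nb D a ∩ nb D c ∧ R q} := by
      rintro q (hq | hq)
      · exact ⟨hq.1, hR p hp q hq.1 hq.2.2.2 hRp⟩
      · exact ⟨hq.1, hR r hr.1 q hq.1 hq.2.2.2 (hR p hp r hr.1 hr.2.2.2 hRp)⟩
    have := Set.ncard_le_ncard hsub (Set.toFinite _)
    omega
  have h1 := big P hP x hx hPx
  have h2 := big (fun q => ¬ P q)
    (fun p hp q hq hpq hnp hq' => hnp (hP q hq p hp hpq.symm hq')) x' hx' hn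
  have h3 := Set.ncard_le_ncard (s := {q | q ∈ nb D a ∩ nb D c ∧ P q} ∪
    {q | q ∈ nb D a ∩ nb D c ∧ ¬ P q}) (t := nb D a ∩ nb D c)
    (Set.union_subset (fun q hq => hq.1) (fun q hq => hq.1)) (Set.toFinite _)
  rw [Set.ncard_union_eq (Set.disjoint_left.2 fun q h h' => h'.2 h.2) (Set.toFinite _)
    (Set.toFinite _), ncard_inter hD hprim h23 ha hc hac] at h3
  omega

end Cfsg.Agent.GenA.Tower.M23
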