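import Cfsg.Agent.GenA.Tower.Transport
import Cfsg.Agent.Lib.ThreeTransp.Cover
import Cfsg.Agent.Lib.ThreeTransp.Factor.Triples

/-!
Primitivity of the local quotient of a primitive group of 3-transpositions.
-/

set_option autoImplicit false
set_option linter.unusedSectionVars false

namespace Cfsg.Agent.GenA.Tower

open Cfsg.Agent.ThreeTransp
open Cfsg.Agent.ThreeTransp.Factor (nb Hd Sd Dl Dq Sep mem_Hd commute_Dl grp_Dq)
open Cfsg.Agent.ThreeTransp.Cover (mem_nb_symm conj_nb)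

universe u

variable {G : Type u} [Group G] {D : Set G}

/-- What the local structure gives without primitivity. -/
structure Inner (D : Set G) : Prop where
  tr : ∀ x ∈ D, ∀ p ∈ nb D x, ∀ q ∈ nb D x, ∃ g : G, g * x * g⁻¹ = x ∧ g * p * g⁻¹ = q
  sep : ∀ x ∈ D, ∀ y ∈ D, ¬ Commute x y → ∃ t ∈ nb D x, t ∉ nb D y
  tri : ∃ t ∈ D, ∃ x ∈ nb D t, ∃ y ∈ nb D t, ¬ Commute x y

/-- Two members that do not commute have a common neighbour. -/
def Diam (D : Set G) : Prop :=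
  ∀ x ∈ D, ∀ y ∈ D, ¬ Commute x y → (nb D x ∩ nb D y).Nonempty

theorem self_not_mem_nb {x : G} : x ∉ nb D x := fun h => h.2.1 rfl

theorem conj_fix_nb [Finite G] (hD : Cfsg.IsThreeTranspositionGroup D) {g x y : G}
    (hg : g * x * g⁻¹ = x) (hy : y ∈ nb D x) : g * y * g⁻¹ ∈ nb D x := by
  have := conj_nb hD g hy
  rwa [hg] at this

theorem primitive_of_diam (hD : Cfsg.IsThreeTranspositionGroup D)
    (htr : ∀ a ∈ D, ∀ b ∈ D, ∃ g : G, g * a * g⁻¹ = b) (hin : Inner D) (hdiam : Diam D) :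
    Cfsg.IsPrimitiveUnderConj D := by
  obtain ⟨t₀, ht₀, x₀, hx₀, -⟩ := hin.tri
  refine ⟨htr, ⟨x₀, hx₀.1, t₀, ht₀, hx₀.2.1⟩, fun B hB hblock => ?_⟩
  by_contra hcon
  push Not at hcon
  obtain ⟨⟨x, hxB, y, hyB, hxy⟩, hBD⟩ := hcon
  have meet : ∀ g : G, ∀ x ∈ B, g * x * g⁻¹ ∈ B → (fun z => g * z * g⁻¹) '' B = B :=
    fun g x hx hgx => (hblock g).resolve_right fun hdis =>
      Set.disjoint_left.1 hdis ⟨x, hx, rfl⟩ hgx
  have hpull : ∀ p ∈ B, ∀ q ∈ B, q ∈ nb D p → nb D p ⊆ B := by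
    intro p hp q hq hqp r hr
    obtain ⟨g, hgp, hgq⟩ := hin.tr p (hB hp) q hqp r hr
    rw [← meet g p hp (by rw [hgp]; exact hp)]
    exact ⟨q, hq, hgq⟩
  by_cases hex : ∃ p ∈ B, ∃ q ∈ B, q ∈ nb D p
  · obtain ⟨p, hp, q, hq, hqp⟩ := hex
    refine hBD (Set.Subset.antisymm hB fun z hz => ?_)
    have hnp := hpull p hp q hq hqp
    by_cases hzp : z = p
    · exact hzp ▸ hp
    by_cases hc : Commute p z
    · exact hnp ⟨hz, hzp, hc⟩
    · obtain ⟨t, htp, htz⟩ := hdiam p (hB hp) z hz hc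
      exact hpull t (hnp htp) p hp (mem_nb_symm (hB hp) htp) (mem_nb_symm hz htz)
  · push Not at hex
    have hnc : ¬ Commute x y := fun h => hex x hxB y hyB ⟨hB hyB, hxy.symm, h⟩
    obtain ⟨t, htx, hty⟩ := hin.sep x (hB hxB) y (hB hyB) hnc
    have htB : t ∉ B := fun h => hex x hxB t h htx
    have hfix : ∀ w ∈ B, (fun z => w * z * w⁻¹) '' B = B := fun w hw =>
      meet w w hw (by rwa [mul_inv_cancel_right])
    have hmove := meet t x hxB (by rwa [← htx.2.2.eq, mul_inv_cancel_right])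
    refine hty ⟨htx.1, fun e => htB (e ▸ hyB), ?_⟩
    by_contra hn
    have h1 : t * y * t⁻¹ ∈ B := hmove ▸ Set.mem_image_of_mem _ hyB
    rw [Classes.braid' hD htx.1 (hB hyB) fun h => hn h.symm] at h1
    have h1' : y * (y * t * y⁻¹) * y⁻¹ ∈ B := hfix y hyB ▸ Set.mem_image_of_mem _ h1
    rw [Classes.inv hD (hB hyB)] at h1'
    rw [show y * (y * t * y) * y = (y * y) * t * (y * y) by simp [mul_assoc],
      Classes.sq hD (hB hyB), one_mul, mul_one] at h1'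
    exact htB h1'

section

variable [Finite G] (hD : Cfsg.IsThreeTranspositionGroup D)
  (hprim : Cfsg.IsPrimitiveUnderConj D) (hZ : Subgroup.center G = ⊥)
  (hex : ∀ a ∈ D, Cfsg.pCore 2 (Sd D a) = ⊥ ∧ Nontrivial (Sd D a))
include hD hprim hZ hex

theorem core_at {a : G} (ha : a ∈ D) :
    Cfsg.pCore 2 G = ⊥ ∧ (∀ x ∈ Dl D a, x ∉ Subgroup.center ↥(Hd D a)) ∧ Sep D a :=
  Factor.core hD hprim.1 hZ ha (hex a ha).2 (hex a ha).1

theorem local_grp {a : G} (ha : a ∈ D) : Cfsg.IsThreeTranspositionGroup (Dq D a) :=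
  grp_Dq hD (core_at hD hprim hZ hex ha).2.1

theorem exists_commuting : ∃ a ∈ D, ∃ b ∈ D, a ≠ b ∧ Commute a b := by
  obtain ⟨a, ha, -⟩ := hprim.2.1
  by_contra! hcon
  have h : nb D a = ∅ := Set.eq_empty_iff_forall_notMem.2 fun y hy =>
    hcon a ha y hy.1 hy.2.1.symm hy.2.2
  have hbot : Hd D a = ⊥ := by
    show Subgroup.closure (nb D a) = ⊥
    rw [h, Subgroup.closure_empty]
  haveI : Subsingleton ↥(Hd D a) := ⟨fun p q => Subtype.ext
    ((Subgroup.mem_bot.1 (hbot ▸ p.2 : (p : G) ∈ (⊥ : Subgroup G))).trans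
      (Subgroup.mem_bot.1 (hbot ▸ q.2 : (q : G) ∈ (⊥ : Subgroup G))).symm)⟩
  haveI := (hex a ha).2
  haveI : Subsingleton (Sd D a) := by
    refine ⟨fun p q => ?_⟩
    obtain ⟨p, rfl⟩ := QuotientGroup.mk_surjective p
    obtain ⟨q, rfl⟩ := QuotientGroup.mk_surjective q
    rw [Subsingleton.elim p q]
  exact not_subsingleton (Sd D a) this

theorem local_tr {a : G} (ha : a ∈ D) :
    ∀ x ∈ Dq D a, ∀ y ∈ Dq D a, ∃ g : Sd D a, g * x * g⁻¹ = y := by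
  rintro _ ⟨x, hx, rfl⟩ _ ⟨y, hy, rfl⟩
  have hw := exists_commuting hD hprim hZ hex
  obtain ⟨g, hg, hgxy⟩ := RankThree.linked_inner hD hprim hw
    (Primitive.cores_central hD hprim hw).1 ha hx.1 hy.1 hx.2.2 hy.2.2 hx.2.1 hy.2.1
  obtain ⟨k, hk, hk'⟩ := Factor.loc_conj hD hg _ hx
  refine ⟨QuotientGroup.mk ⟨k, hk⟩, ?_⟩
  rw [← QuotientGroup.mk_mul, ← QuotientGroup.mk_inv, ← QuotientGroup.mk_mul]
  exact congrArg _ (Subtype.ext (hk'.trans hgxy))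

omit hex in
/-- The neighbours of a member, in the local quotient. -/
theorem mk_nb_iff {a : G} {x y : ↥(Hd D a)} (hx : x ∈ Dl D a) (hy : y ∈ Dl D a) (hsep : Sep D a) :
    (QuotientGroup.mk y : Sd D a) ∈ nb (Dq D a) (QuotientGroup.mk x) ↔ (y : G) ∈ nb D (x : G) := by
  constructor
  · rintro ⟨-, hne, hc⟩
    exact ⟨hy.1, fun e => hne (congrArg _ (Subtype.ext e)), commute_Dl hD hx hy hc⟩
  · rintro ⟨-, hne, hc⟩
    exact ⟨⟨y, hy, rfl⟩, fun e => hne (congrArg Subtype.val (hsep y hy x hx e)),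
      (show Commute x y from Subtype.ext hc.eq).map (QuotientGroup.mk' _)⟩

/-- Two non-commuting neighbours of a member share a further neighbour. -/
theorem exists_inner (hin : ∀ a ∈ D, Inner (Dq D a)) {a x y : G} (ha : a ∈ D) (hx : x ∈ nb D a)
    (hy : y ∈ nb D a) (hxy : ¬ Commute x y) : (nb D a ∩ (nb D x ∩ nb D y)).Nonempty := by
  have hw := exists_commuting hD hprim hZ hex
  by_contra hne
  rw [Set.not_nonempty_iff_eq_empty] at hne
  -- a pair with two commuting common neighbours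
  obtain ⟨a₀, ha₀, -⟩ := hprim.2.1
  obtain ⟨_, ⟨t, ht, rfl⟩, _, ⟨⟨p, hp, rfl⟩, hpt₁, hpt₂⟩, _, ⟨⟨q, hq, rfl⟩, hqt₁, hqt₂⟩, hpq⟩ :=
    (hin a₀ ha₀).tri
  have hsep := (core_at hD hprim hZ hex ha₀).2.2
  have hpt := (mk_nb_iff hD hprim hZ ht hp hsep).1 ⟨⟨p, hp, rfl⟩, hpt₁, hpt₂⟩
  have hqt := (mk_nb_iff hD hprim hZ ht hq hsep).1 ⟨⟨q, hq, rfl⟩, hqt₁, hqt₂⟩
  have hpq' : ¬ Commute (p : G) q := fun h => hpq
    ((show Commute p q from Subtype.ext h.eq).map (QuotientGroup.mk' _))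
  -- moved to the pair `x`, `y`
  obtain ⟨g, hg⟩ := hprim.1 _ hp.1 x hx.1
  obtain ⟨h, hh, hh'⟩ := RankThree.linked_outer hD hprim hw hx.1 (hD.2.1 g q hq.1) hy.1
    (by rw [← hg, Basic.commute_conj]; exact hpq') hxy
  set k := h * g with hk
  have ek : k * p * k⁻¹ = x := by
    rw [show k * p * k⁻¹ = h * (g * p * g⁻¹) * h⁻¹ by rw [hk]; group, hg,
      RankThree.conj_self_of_commute (RankThree.loc_commute hh)]
  have ek' : k * q * k⁻¹ = y := by rw [← hh', hk]; group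
  have hA : k * a₀ * k⁻¹ ∈ nb D x ∩ nb D y ∧ k * t * k⁻¹ ∈ nb D x ∩ nb D y ∧
      k * t * k⁻¹ ∈ nb D (k * a₀ * k⁻¹) := by
    refine ⟨⟨?_, ?_⟩, ⟨?_, ?_⟩, conj_nb hD k ht⟩
    · rw [← ek]; exact conj_nb hD k (mem_nb_symm ha₀ hp)
    · rw [← ek']; exact conj_nb hD k (mem_nb_symm ha₀ hq)
    · rw [← ek]; exact conj_nb hD k (mem_nb_symm ht.1 hpt)
    · rw [← ek']; exact conj_nb hD k (mem_nb_symm ht.1 hqt)
  set c := k * a₀ * k⁻¹
  set e := k * t * k⁻¹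
  obtain ⟨hc, he, hec⟩ := hA
  have hab : a ∈ nb D x ∩ nb D y := ⟨mem_nb_symm ha hx, mem_nb_symm ha hy⟩
  have hiso : ∀ z ∈ nb D x ∩ nb D y, z ∉ nb D a := fun z hz hza =>
    Set.eq_empty_iff_forall_notMem.1 hne z ⟨hza, hz⟩
  have hac : ¬ Commute a c := by
    intro h
    by_cases e' : c = a
    · exact hiso e he (e' ▸ hec)
    · exact hiso c hc ⟨hc.1.1, e', h⟩
  have hfix : ∀ w ∈ nb D x ∩ nb D y, ∀ z ∈ nb D x ∩ nb D y,
      w * z * w⁻¹ ∈ nb D x ∩ nb D y := fun w hw z hz =>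
    ⟨conj_fix_nb hD (RankThree.conj_self_of_commute hw.1.2.2) hz.1,
      conj_fix_nb hD (RankThree.conj_self_of_commute hw.2.2.2) hz.2⟩
  have h1 : a * e * a⁻¹ ∈ nb D (a * c * a⁻¹) := conj_nb hD a hec
  rw [Classes.braid' hD ha hc.1.1 hac] at h1
  have h2 := conj_nb hD c⁻¹ h1
  rw [show c⁻¹ * (c * a * c⁻¹) * c⁻¹⁻¹ = a by group] at h2
  refine hiso _ ?_ h2
  have := hfix c hc _ (hfix a hab e he)
  simpa [Classes.inv hD hc.1.1] using this

/-- The local quotient is primitive on its members. -/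
theorem local_prim (hin : ∀ a ∈ D, Inner (Dq D a)) {a : G} (ha : a ∈ D) :
    Cfsg.IsPrimitiveUnderConj (Dq D a) := by
  refine primitive_of_diam (local_grp hD hprim hZ hex ha) (local_tr hD hprim hZ hex ha) (hin a ha) ?_
  rintro _ ⟨x, hx, rfl⟩ _ ⟨y, hy, rfl⟩ hxy
  have hsep := (core_at hD hprim hZ hex ha).2.2
  obtain ⟨z, hza, hzx, hzy⟩ := exists_inner hD hprim hZ hex hin ha hx hy fun h => hxy
    ((show Commute x y from Subtype.ext h.eq).map (QuotientGroup.mk' _))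
  exact ⟨QuotientGroup.mk ⟨z, mem_Hd hza⟩,
    (mk_nb_iff hD hprim hZ hx (y := ⟨z, mem_Hd hza⟩) hza hsep).2 hzx,
    (mk_nb_iff hD hprim hZ hy (y := ⟨z, mem_Hd hza⟩) hza hsep).2 hzy⟩

end

end Cfsg.Agent.GenA.Tower
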