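import Cfsg.Agent.GenA.Tower.Blocks

/-!
The neighbours of a member as seen in the local quotient.
-/

set_option autoImplicit false
set_option linter.unusedSectionVars false

namespace Cfsg.Agent.GenA.Tower

open Cfsg.Agent.ThreeTransp
open Cfsg.Agent.ThreeTransp.Factor (nb Hd Sd Dl Dq Sep mem_Hd commute_Dl)

universe u

variable {G : Type u} [Group G] {D : Set G}

open scoped _root_.Classical in
/-- The image modulo the centre of the local subgroup. -/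
noncomputable def pr (D : Set G) (a x : G) : Sd D a :=
  if h : x ∈ Hd D a then QuotientGroup.mk ⟨x, h⟩ else 1

theorem pr_mk {a x : G} (h : x ∈ Hd D a) : pr D a x = QuotientGroup.mk ⟨x, h⟩ := dif_pos h

theorem pr_mul {a x y : G} (hx : x ∈ Hd D a) (hy : y ∈ Hd D a) :
    pr D a (x * y) = pr D a x * pr D a y := by
  rw [pr_mk hx, pr_mk hy, pr_mk (mul_mem hx hy)]; rfl

theorem pr_inv {a x : G} (hx : x ∈ Hd D a) : pr D a x⁻¹ = (pr D a x)⁻¹ := by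
  rw [pr_mk hx, pr_mk (inv_mem hx)]; rfl

theorem pr_mem {a x : G} (hx : x ∈ nb D a) : pr D a x ∈ Dq D a :=
  ⟨⟨x, mem_Hd hx⟩, hx, (pr_mk (mem_Hd hx)).symm⟩

theorem image_nb_pr (a : G) : pr D a '' nb D a = Dq D a := by
  ext y
  constructor
  · rintro ⟨x, hx, rfl⟩; exact pr_mem hx
  · rintro ⟨x, hx, rfl⟩; exact ⟨x, hx, pr_mk x.2⟩

theorem pr_inj {a x y : G} (hsep : Sep D a) (hx : x ∈ nb D a) (hy : y ∈ nb D a)
    (h : pr D a x = pr D a y) : x = y := by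
  rw [pr_mk (mem_Hd hx), pr_mk (mem_Hd hy)] at h
  exact congrArg Subtype.val (hsep ⟨x, mem_Hd hx⟩ hx ⟨y, mem_Hd hy⟩ hy h)

theorem pr_comm (hD : Cfsg.IsThreeTranspositionGroup D) {a x y : G} (hx : x ∈ nb D a)
    (hy : y ∈ nb D a) : Commute (pr D a x) (pr D a y) ↔ Commute x y := by
  rw [pr_mk (mem_Hd hx), pr_mk (mem_Hd hy)]
  exact ⟨fun h => commute_Dl hD (x := ⟨x, mem_Hd hx⟩) (y := ⟨y, mem_Hd hy⟩) hx hy h,
    fun h => (show Commute (⟨x, mem_Hd hx⟩ : ↥(Hd D a)) ⟨y, mem_Hd hy⟩ from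
      Subtype.ext h.eq).map (QuotientGroup.mk' _)⟩

theorem pr_nb (hD : Cfsg.IsThreeTranspositionGroup D) {a x y : G} (hsep : Sep D a)
    (hx : x ∈ nb D a) (hy : y ∈ nb D a) :
    pr D a y ∈ nb (Dq D a) (pr D a x) ↔ y ∈ nb D x :=
  ⟨fun ⟨_, hne, hc⟩ => ⟨hy.1, fun e => hne (by rw [e]), (pr_comm hD hx hy).1 hc⟩,
    fun ⟨_, hne, hc⟩ => ⟨pr_mem hy, fun e => hne (pr_inj hsep hy hx e), (pr_comm hD hx hy).2 hc⟩⟩

theorem ncard_pr {a : G} (hsep : Sep D a) {s : Set G} (hs : s ⊆ nb D a) :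
    (pr D a '' s).ncard = s.ncard :=
  Set.InjOn.ncard_image fun x hx y hy h => pr_inj hsep (hs hx) (hs hy) h

theorem image_one (hD : Cfsg.IsThreeTranspositionGroup D) {a x : G} (hsep : Sep D a)
    (hx : x ∈ nb D a) : pr D a '' (nb D a ∩ nb D x) = nb (Dq D a) (pr D a x) := by
  ext y
  constructor
  · rintro ⟨z, ⟨hz, hzx⟩, rfl⟩; exact (pr_nb hD hsep hx hz).2 hzx
  · intro hy
    obtain ⟨z, hz, rfl⟩ : y ∈ pr D a '' nb D a := by rw [image_nb_pr]; exact hy.1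
    exact ⟨z, ⟨hz, (pr_nb hD hsep hx hz).1 hy⟩, rfl⟩

theorem image_two (hD : Cfsg.IsThreeTranspositionGroup D) {a x z : G} (hsep : Sep D a)
    (hx : x ∈ nb D a) (hz : z ∈ nb D a) :
    pr D a '' (nb D a ∩ nb D x ∩ nb D z) =
      nb (Dq D a) (pr D a x) ∩ nb (Dq D a) (pr D a z) := by
  ext y
  constructor
  · rintro ⟨w, ⟨⟨hw, hwx⟩, hwz⟩, rfl⟩
    exact ⟨(pr_nb hD hsep hx hw).2 hwx, (pr_nb hD hsep hz hw).2 hwz⟩
  · intro hy
    obtain ⟨w, hw, rfl⟩ : y ∈ pr D a '' nb D a := by rw [image_nb_pr]; exact hy.1.1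
    exact ⟨w, ⟨⟨hw, (pr_nb hD hsep hx hw).1 hy.1⟩, (pr_nb hD hsep hz hw).1 hy.2⟩, rfl⟩

theorem image_three (hD : Cfsg.IsThreeTranspositionGroup D) {a x z y : G} (hsep : Sep D a)
    (hx : x ∈ nb D a) (hz : z ∈ nb D a) (hy : y ∈ nb D a) :
    pr D a '' (nb D a ∩ nb D x ∩ nb D z ∩ nb D y) =
      nb (Dq D a) (pr D a x) ∩ nb (Dq D a) (pr D a z) ∩ nb (Dq D a) (pr D a y) := by
  ext q
  constructor
  · rintro ⟨w, ⟨⟨⟨hw, hwx⟩, hwz⟩, hwy⟩, rfl⟩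
    exact ⟨⟨(pr_nb hD hsep hx hw).2 hwx, (pr_nb hD hsep hz hw).2 hwz⟩,
      (pr_nb hD hsep hy hw).2 hwy⟩
  · intro hq
    obtain ⟨w, hw, rfl⟩ : q ∈ pr D a '' nb D a := by rw [image_nb_pr]; exact hq.1.1.1
    exact ⟨w, ⟨⟨⟨hw, (pr_nb hD hsep hx hw).1 hq.1.1⟩, (pr_nb hD hsep hz hw).1 hq.1.2⟩,
      (pr_nb hD hsep hy hw).1 hq.2⟩, rfl⟩

end Cfsg.Agent.GenA.Tower
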